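import Mathlib

/-!
The `k`-linear presentation of Kähler differentials by `a ⊗ b ↦ a db`.
-/

open TensorProduct

namespace Groth.Agent.DiagSym

universe u v

variable (k : Type u) [CommRing k] (A : Type v) [CommRing A] [Algebra k A]

/-- `a ⊗ b ↦ a db`. -/
noncomputable def mu : A ⊗[k] A →ₗ[k] Ω[A⁄k] :=
  TensorProduct.lift (LinearMap.mk₂ k (fun a b => a • KaehlerDifferential.D k A b)
    (fun a a' b => add_smul a a' _)
    (fun c a b => smul_assoc c a _)
    (fun a b b' => by rw [map_add, smul_add])
    (fun c a b => by rw [Derivation.map_smul, smul_comm]))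

@[simp] lemma mu_tmul (a b : A) : mu k A (a ⊗ₜ[k] b) = a • KaehlerDifferential.D k A b := by
  simp [mu]

/-- The Leibniz relators. -/
def rel (a b c : A) : A ⊗[k] A := a ⊗ₜ[k] (b * c) - (a * b) ⊗ₜ[k] c - (a * c) ⊗ₜ[k] b

lemma mu_rel (a b c : A) : mu k A (rel k A a b c) = 0 := by
  simp [rel, smul_add, smul_smul]

lemma smul_rel (x a b c : A) : x • rel k A a b c = rel k A (x * a) b c := by
  simp [rel, smul_sub, TensorProduct.smul_tmul', mul_assoc]

/-- The kernel of `a ⊗ b ↦ a db` is spanned by the relators. -/
theorem ker_mu : LinearMap.ker (mu k A) =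
    Submodule.span k (Set.range fun t : A × A × A => rel k A t.1 t.2.1 t.2.2) := by
  refine le_antisymm (fun x hx => ?_) (Submodule.span_le.2 ?_)
  · let N : Submodule A (A ⊗[k] A) :=
      Submodule.span A (Set.range fun t : A × A => rel k A 1 t.1 t.2)
    let δ : Derivation k A ((A ⊗[k] A) ⧸ N) := Derivation.mk'
      ((N.mkQ.restrictScalars k) ∘ₗ (TensorProduct.mk k A A 1)) (fun b c => by
        have h1 : N.mkQ (rel k A 1 b c) = 0 :=
          (Submodule.Quotient.mk_eq_zero _).2 (Submodule.subset_span ⟨(b, c), rfl⟩)
        simp only [rel, one_mul, map_sub] at h1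
        simp only [LinearMap.coe_comp, LinearMap.coe_restrictScalars, Function.comp_apply,
          TensorProduct.mk_apply]
        rw [← map_smul N.mkQ b, ← map_smul N.mkQ c, TensorProduct.smul_tmul',
          TensorProduct.smul_tmul', smul_eq_mul, smul_eq_mul, mul_one, mul_one]
        rw [sub_sub, sub_eq_zero] at h1
        exact h1)
    have hL : ∀ y, δ.liftKaehlerDifferential (mu k A y) = N.mkQ y := by
      intro y
      induction y using TensorProduct.induction_on with
      | zero => simp
      | tmul a b =>
        rw [mu_tmul, map_smul, Derivation.liftKaehlerDifferential_comp_D]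
        show a • N.mkQ ((1 : A) ⊗ₜ[k] b) = _
        rw [← map_smul N.mkQ a, TensorProduct.smul_tmul', smul_eq_mul, mul_one]
      | add y z hy hz => rw [map_add, map_add, hy, hz, map_add]
    have hxN : x ∈ N := by
      rw [← Submodule.Quotient.mk_eq_zero]
      show N.mkQ x = 0
      rw [← hL, LinearMap.mem_ker.1 hx, map_zero]
    clear hx
    suffices h : ∀ a : A, a • x ∈ Submodule.span k
        (Set.range fun t : A × A × A => rel k A t.1 t.2.1 t.2.2) by simpa using h 1
    induction hxN using Submodule.span_induction with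
    | mem y hy =>
      obtain ⟨⟨b, c⟩, rfl⟩ := hy
      intro a
      rw [smul_rel, mul_one]
      exact Submodule.subset_span ⟨(a, b, c), rfl⟩
    | zero => simp
    | add y z _ _ hy hz => intro a; rw [smul_add]; exact Submodule.add_mem _ (hy a) (hz a)
    | smul s y _ hy => intro a; rw [smul_smul]; exact hy (a * s)
  · rintro _ ⟨⟨a, b, c⟩, rfl⟩
    exact mu_rel k A a b c

lemma mu_surjective : Function.Surjective (mu k A) := by
  intro w
  have hw : w ∈ Submodule.span A (Set.range (KaehlerDifferential.D k A)) := by
    rw [KaehlerDifferential.span_range_derivation]; exact Submodule.mem_top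
  suffices h : ∀ a : A, ∃ y, mu k A y = a • w by simpa using h 1
  induction hw using Submodule.span_induction with
  | mem w hw => obtain ⟨b, rfl⟩ := hw; exact fun a => ⟨a ⊗ₜ b, mu_tmul k A a b⟩
  | zero => exact fun a => ⟨0, by simp⟩
  | add y z _ _ hy hz =>
    intro a
    obtain ⟨p, hp⟩ := hy a
    obtain ⟨q, hq⟩ := hz a
    exact ⟨p + q, by rw [map_add, hp, hq, smul_add]⟩
  | smul s y _ hy => intro a; rw [smul_smul]; exact hy (a * s)

end Groth.Agent.DiagSym
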